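import Groth.Prelude.Def_FEt
import Groth.Agent.PunctAffine.Complement
import Mathlib

/-!
# Van der Waerden purity: the algebraic core
-/

set_option autoImplicit false
universe u

open CategoryTheory CategoryTheory.Limits AlgebraicGeometry TopologicalSpace TensorProduct

namespace Groth.Agent.Pur21W

/-- Condition (W) for a local ring. -/
def CondW (A : Type u) [CommRing A] [IsLocalRing A] : Prop :=
  ∀ U : (Spec (CommRingCat.of A)).Opens, ∀ hU : U ≤ FEt.puncturedSpec A,
    (∀ T ∈ irreducibleComponents ↥(FEt.puncturedSpec A), ¬ Subtype.val '' T ⊆ (U : Set _)) →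
    IsAffineHom ((Spec (CommRingCat.of A)).homOfLE hU) → IsAffineOpen U

section Algebra

variable {R : Type u} [CommRing R] (p : Ideal R) [p.IsPrime] {B : Type u} [CommRing B] [IsNoetherianRing B]
  [Algebra R B]

/-- An isolated point of a fibre. -/
theorem exists_isolated (q : PrimeSpectrum B) (hq : q.asIdeal.comap (algebraMap R B) = p)
    (hmin : ∀ q' : PrimeSpectrum B, q'.asIdeal.comap (algebraMap R B) = p → q' ≤ q → q' = q)
    (hmax : ∀ q' : PrimeSpectrum B, q'.asIdeal.comap (algebraMap R B) = p → q ≤ q' → q' = q) :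
    ∃ f ∉ q.asIdeal, ∀ q' : PrimeSpectrum B,
      q'.asIdeal.comap (algebraMap R B) = p → f ∉ q'.asIdeal → q' = q := by
  classical
  let I := p.map (algebraMap R B)
  have hIq : I ≤ q.asIdeal := Ideal.map_le_iff_le_comap.2 hq.ge
  have hfin : (I.minimalPrimes \ {q.asIdeal}).Finite := (Ideal.finite_minimalPrimes_of_isNoetherianRing B I).sdiff
  have hex : ∀ r ∈ hfin.toFinset, ∃ g, g ∈ r ∧ g ∉ q.asIdeal := by
    intro r hr
    rw [Set.Finite.mem_toFinset] at hr
    refine SetLike.not_le_iff_exists.1 fun hle => hr.2 (le_antisymm hle ?_)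
    have hr' := hr.1.isPrime
    have hrp : Ideal.comap (algebraMap R B) r = p :=
      le_antisymm ((Ideal.comap_mono hle).trans hq.le) (Ideal.map_le_iff_le_comap.1 hr.1.le)
    exact (congrArg PrimeSpectrum.asIdeal (hmin ⟨r, hr'⟩ hrp hle)).ge
  choose g hg hgq using hex
  refine ⟨∏ r ∈ hfin.toFinset.attach, g r.1 r.2, fun h => ?_, fun q' hq' hf => ?_⟩
  · obtain ⟨r, -, hr⟩ := (Ideal.IsPrime.prod_mem_iff (hp := q.isPrime)).1 h
    exact hgq _ _ hr
  · obtain ⟨r, hr, hrq'⟩ := Ideal.exists_minimalPrimes_le (J := q'.asIdeal)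
      (Ideal.map_le_iff_le_comap.2 hq'.ge : I ≤ q'.asIdeal)
    by_cases hrq : r = q.asIdeal
    · exact hmax q' hq' (show q.asIdeal ≤ q'.asIdeal from hrq ▸ hrq')
    · refine absurd ((Ideal.IsPrime.prod_mem_iff (hp := q'.isPrime)).2
        ⟨⟨r, hfin.mem_toFinset.2 ⟨hr, hrq⟩⟩, Finset.mem_attach _ _, hrq' (hg _ _)⟩) hf

end Algebra

section Local

variable {A : Type u} [CommRing A] [IsLocalRing A] {B : Type u} [CommRing B] [IsNoetherianRing B]
  [Algebra A B]

local notation "m" => IsLocalRing.maximalIdeal A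

theorem comap_ne_maximal_aux {B : Type u} [CommRing B] [IsNoetherianRing B] (I : Ideal B)
    {P r F : Ideal B} [P.IsPrime] [F.IsPrime] {f : B} (hr : r ∈ (P ⊔ Ideal.span {f}).minimalPrimes)
    (hI : ¬ I ≤ P) (hF : F ∈ (P ⊔ I).minimalPrimes) (hFr : F ≤ r) : F = r := by
  by_contra hne
  haveI := hr.isPrime
  haveI : (r.map (Ideal.Quotient.mk P)).IsPrime :=
    Ideal.map_isPrime_of_surjective Ideal.Quotient.mk_surjective (by rw [Ideal.mk_ker]; exact le_sup_left.trans hr.le)
  haveI : (F.map (Ideal.Quotient.mk P)).IsPrime :=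
    Ideal.map_isPrime_of_surjective Ideal.Quotient.mk_surjective (by rw [Ideal.mk_ker]; exact le_sup_left.trans hF.le)
  have hPF : P ≤ F := le_sup_left.trans hF.le
  have h1 : F.map (Ideal.Quotient.mk P) < r.map (Ideal.Quotient.mk P) := by
    refine lt_of_le_of_ne (Ideal.map_mono hFr) fun h => hne ?_
    have := congrArg (Ideal.comap (Ideal.Quotient.mk P)) h
    rwa [Ideal.comap_map_of_surjective _ Ideal.Quotient.mk_surjective,
      Ideal.comap_map_of_surjective _ Ideal.Quotient.mk_surjective, ← RingHom.ker_eq_comap_bot,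
      Ideal.mk_ker, sup_eq_left.2 hPF, sup_eq_left.2 (hPF.trans hFr)] at this
  have h2 : (F.map (Ideal.Quotient.mk P)).height = 0 := by
    have := Ideal.height_strict_mono_of_isPrime h1
    exact ENat.lt_one_iff_eq_zero.1 (this.trans_le (Ideal.map_height_le_one_of_mem_minimalPrimes hr))
  rw [Ideal.height_eq_zero_iff] at h2
  have h3 : F.map (Ideal.Quotient.mk P) = ⊥ :=
    le_antisymm (h2.2 ⟨Ideal.bot_prime, le_rfl⟩ bot_le) bot_le
  rw [Ideal.map_eq_bot_iff_le_ker, Ideal.mk_ker] at h3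
  exact hI ((le_sup_right.trans hF.le).trans h3)

/-- The core of van der Waerden purity: over a local ring with (W), a morphism which is an open
immersion off the closed fibre has its fibre components of codimension one or isolated. -/
theorem height_le_one_of_condW (hW : CondW A)
    [IsOpenImmersion (Spec.map (CommRingCat.ofHom (algebraMap A B)) ∣_ FEt.puncturedSpec A)]
    (q : PrimeSpectrum B) (hq : q.asIdeal.comap (algebraMap A B) = m)
    (hmin : ∀ q' : PrimeSpectrum B, q'.asIdeal.comap (algebraMap A B) = m → q' ≤ q → q' = q)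
    (q'' : PrimeSpectrum B) (hq'' : q''.asIdeal.comap (algebraMap A B) = m) (hle : q ≤ q'') (hne : q'' ≠ q) :
    q.asIdeal.height ≤ 1 := by
  classical
  let s := Spec.map (CommRingCat.ofHom (algebraMap A B))
  let V := FEt.puncturedSpec A
  haveI := q.isPrime
  haveI := q''.isPrime
  have hsmem : ∀ (x : PrimeSpectrum B), (x : Spec (CommRingCat.of B)) ∈ s ⁻¹ᵁ V ↔
      x.asIdeal.comap (algebraMap A B) ≠ m := fun x => by
    show ¬ (PrimeSpectrum.comap (algebraMap A B) x = IsLocalRing.closedPoint A) ↔ _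
    rw [PrimeSpectrum.ext_iff]; exact Iff.rfl
  have hres : ∀ z : ↥(s ⁻¹ᵁ V), ((s ∣_ V) z).1 = PrimeSpectrum.comap (algebraMap A B) z.1 := fun z => by
    rw [morphismRestrict_base]; rfl
  have hinj : ∀ x y : PrimeSpectrum B, x.asIdeal.comap (algebraMap A B) ≠ m →
      x.asIdeal.comap (algebraMap A B) = y.asIdeal.comap (algebraMap A B) → x = y := by
    intro x y hx hxy
    have hy : y.asIdeal.comap (algebraMap A B) ≠ m := hxy ▸ hx
    have h : (s ∣_ V) ⟨x, (hsmem x).2 hx⟩ = (s ∣_ V) ⟨y, (hsmem y).2 hy⟩ :=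
      Subtype.ext ((hres ⟨x, (hsmem x).2 hx⟩).trans
        ((PrimeSpectrum.ext hxy).trans (hres ⟨y, (hsmem y).2 hy⟩).symm))
    exact congrArg Subtype.val ((s ∣_ V).isOpenEmbedding.injective h)
  -- the choice of a basic open missing a point of each component of the punctured spectrum
  have key : ∀ P : PrimeSpectrum B, P.asIdeal.comap (algebraMap A B) ≠ m → P ≤ q →
      ∃ r : PrimeSpectrum B, P ≤ r ∧ r.asIdeal.comap (algebraMap A B) ≠ m ∧ ¬ r.asIdeal ≤ q.asIdeal := by
    intro P hP hPq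
    haveI := P.isPrime
    let I := (IsLocalRing.maximalIdeal A).map (algebraMap A B)
    have hI : ¬ I ≤ P.asIdeal := fun h => hP ((IsLocalRing.maximalIdeal.isMaximal A).eq_of_le
      (Ideal.IsPrime.comap (algebraMap A B)).ne_top (Ideal.map_le_iff_le_comap.1 h)).symm
    have hfin := Ideal.finite_minimalPrimes_of_isNoetherianRing B (P.asIdeal ⊔ I)
    have hFcomap : ∀ F : Ideal B, F.IsPrime → I ≤ F → F.comap (algebraMap A B) = m := fun F hF h =>
      ((IsLocalRing.maximalIdeal.isMaximal A).eq_of_le (Ideal.IsPrime.comap _).ne_top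
        (Ideal.map_le_iff_le_comap.1 h)).symm
    have hnot : ¬ (q''.asIdeal : Set B) ⊆ ⋃ F ∈ ((insert q.asIdeal hfin.toFinset : Finset (Ideal B)) : Set (Ideal B)), (F : Set B) := by
      rw [Ideal.subset_union_prime (q.asIdeal) (q.asIdeal)]
      · rintro ⟨F, hF, hqF⟩
        rcases Finset.mem_insert.1 hF with rfl | hF
        · exact hne (PrimeSpectrum.ext (le_antisymm hqF hle))
        · rw [Set.Finite.mem_toFinset] at hF
          have := hF.isPrime
          have hqle : q.asIdeal ≤ F := (show q.asIdeal ≤ q''.asIdeal from hle).trans hqF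
          have : F ≤ q.asIdeal :=
            hF.2 ⟨q.isPrime, sup_le hPq (Ideal.map_le_iff_le_comap.2 hq.ge)⟩ hqle
          exact hne (PrimeSpectrum.ext (le_antisymm (hqF.trans this) hle))
      · intro F hF _ _
        rcases Finset.mem_insert.1 hF with rfl | hF
        · exact q.isPrime
        · exact (hfin.mem_toFinset.1 hF).isPrime
    obtain ⟨f, hfq, hf⟩ := Set.not_subset.1 hnot
    simp only [Set.mem_iUnion, SetLike.mem_coe, not_exists] at hf
    obtain ⟨r, hr, hrq⟩ := Ideal.exists_minimalPrimes_le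
      (show P.asIdeal ⊔ Ideal.span {f} ≤ q''.asIdeal from
        sup_le (hPq.trans hle) ((Ideal.span_singleton_le_iff_mem _).2 hfq))
    haveI := hr.isPrime
    have hfr : f ∈ r := le_sup_right.trans hr.le (Ideal.mem_span_singleton_self f)
    refine ⟨⟨r, hr.isPrime⟩, le_sup_left.trans hr.le, fun hrm => ?_,
      fun h => hf q.asIdeal (Finset.mem_insert_self _ _) (h hfr)⟩
    obtain ⟨F, hF, hFr⟩ := Ideal.exists_minimalPrimes_le
      (show P.asIdeal ⊔ I ≤ r from sup_le (le_sup_left.trans hr.le) (Ideal.map_le_iff_le_comap.2 hrm.ge))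
    haveI := hF.isPrime
    have := comap_ne_maximal_aux I hr hI hF hFr
    exact hf F (Finset.mem_insert_of_mem (hfin.mem_toFinset.2 hF)) (this ▸ hfr)
  -- for each minimal prime of `B` off the fibre, choose such a point
  have key' : ∀ P ∈ (minimalPrimes B), ∃ g ∉ q.asIdeal, P.comap (algebraMap A B) ≠ m →
      ∃ r : PrimeSpectrum B, P ≤ r.asIdeal ∧ r.asIdeal.comap (algebraMap A B) ≠ m ∧ g ∈ r.asIdeal := by
    intro P hP
    have hone : (1 : B) ∉ q.asIdeal := fun h => q.isPrime.ne_top ((Ideal.eq_top_iff_one _).2 h)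
    by_cases hPm : P.comap (algebraMap A B) = m
    · exact ⟨1, hone, fun h => (h hPm).elim⟩
    by_cases hPq : P ≤ q.asIdeal
    · obtain ⟨r, hPr, hrm, hrq⟩ := key ⟨P, hP.isPrime⟩ hPm hPq
      obtain ⟨g, hgr, hgq⟩ := SetLike.not_le_iff_exists.1 hrq
      exact ⟨g, hgq, fun _ => ⟨r, hPr, hrm, hgr⟩⟩
    · obtain ⟨g, hgP, hgq⟩ := SetLike.not_le_iff_exists.1 hPq
      exact ⟨g, hgq, fun _ => ⟨⟨P, hP.isPrime⟩, le_rfl, hPm, hgP⟩⟩
  choose g hgq hg using key'
  have hfin : (minimalPrimes B).Finite := minimalPrimes.finite_of_isNoetherianRing B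
  let f : B := ∏ P ∈ hfin.toFinset.attach, g P.1 (hfin.mem_toFinset.1 P.2)
  have hfq : f ∉ q.asIdeal := fun h => by
    obtain ⟨P, -, hP⟩ := (Ideal.IsPrime.prod_mem_iff (hp := q.isPrime)).1 h
    exact hgq _ _ hP
  let D : (Spec (CommRingCat.of B)).Opens := PrimeSpectrum.basicOpen f
  have hDa : IsAffineOpen D := by
    have := (isAffineOpen_top (Spec (CommRingCat.of B))).basicOpen ((Scheme.ΓSpecIso (CommRingCat.of B)).inv f)
    rwa [basicOpen_eq_of_affine] at this
  haveI : IsAffine D := hDa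
  let W := D ⊓ s ⁻¹ᵁ V
  let t : (D : Scheme.{u}) ⟶ Spec (CommRingCat.of A) := D.ι ≫ s
  haveI : IsOpenImmersion (t ∣_ V) := by
    rw [morphismRestrict_comp]
    haveI : IsOpenImmersion (s ∣_ V) := inferInstanceAs
      (IsOpenImmersion (Spec.map (CommRingCat.ofHom (algebraMap A B)) ∣_ FEt.puncturedSpec A))
    exact MorphismProperty.comp_mem @IsOpenImmersion _ _
      (IsZariskiLocalAtTarget.restrict (P := @IsOpenImmersion) inferInstance _) inferInstance
  haveI : IsAffineHom (t ∣_ V) := IsZariskiLocalAtTarget.restrict (P := @IsAffineHom) inferInstance V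
  let j : ((t ⁻¹ᵁ V : D.toScheme.Opens) : Scheme.{u}) ⟶ Spec (CommRingCat.of A) := (t ∣_ V) ≫ V.ι
  let U : (Spec (CommRingCat.of A)).Opens := j.opensRange
  have hU : U ≤ V := by
    rintro _ ⟨x, rfl⟩
    exact ((t ∣_ V) x).2
  have hiso : (Scheme.Hom.isoOpensRange j).hom ≫ (Spec (CommRingCat.of A)).homOfLE hU = t ∣_ V := by
    rw [← cancel_mono V.ι, Category.assoc, Scheme.homOfLE_ι, Scheme.Hom.isoOpensRange_hom_ι]
  have haff : IsAffineHom ((Spec (CommRingCat.of A)).homOfLE hU) := by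
    rw [← (Iso.inv_comp_eq _).2 hiso.symm]
    exact MorphismProperty.comp_mem _ _ _ inferInstance inferInstance
  have hcomp : ∀ T ∈ irreducibleComponents ↥V, ¬ Subtype.val '' T ⊆ (U : Set _) := by
    intro T hT hTU
    have hTc := isClosed_of_mem_irreducibleComponents T hT
    haveI : QuasiSober ↥V := inferInstanceAs (QuasiSober (V : Scheme.{u}))
    obtain ⟨η, hη⟩ := QuasiSober.sober hT.1 hTc
    have hηT : η ∈ T := hη.mem
    obtain ⟨x, hx⟩ := hTU ⟨η, hηT, rfl⟩
    let x' : PrimeSpectrum B := x.1.1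
    have hj : ∀ z, j z = PrimeSpectrum.comap (algebraMap A B) (z.1.1 : PrimeSpectrum B) := fun z => by
      simp only [j, t, morphismRestrict_ι, Scheme.Hom.comp_apply]; rfl
    have hx' : PrimeSpectrum.comap (algebraMap A B) x' = η.1 := (hj x).symm.trans hx
    have hxm : x'.asIdeal.comap (algebraMap A B) ≠ m := (hsmem x').1 x.2
    obtain ⟨P, hP, hPx⟩ := Ideal.exists_minimalPrimes_le (show (⊥ : Ideal B) ≤ x'.asIdeal from bot_le)
    have hPm : P.comap (algebraMap A B) ≠ m := fun h => hxm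
      (((IsLocalRing.maximalIdeal.isMaximal A).eq_of_le (Ideal.IsPrime.comap (hK := x'.isPrime) _).ne_top
        (h.ge.trans (Ideal.comap_mono hPx))).symm)
    obtain ⟨r, hPr, hrm, hgr⟩ := hg P hP hPm
    let η' : ↥V := ⟨PrimeSpectrum.comap (algebraMap A B) ⟨P, hP.isPrime⟩,
      (hsmem ⟨P, hP.isPrime⟩).2 hPm⟩
    let t' : ↥V := ⟨PrimeSpectrum.comap (algebraMap A B) r, (hsmem r).2 hrm⟩
    have h1 : η' ⤳ η := by
      rw [subtype_specializes_iff, ← hx']
      exact (PrimeSpectrum.le_iff_specializes _ _).1 (Ideal.comap_mono hPx)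
    have h2 : η' ⤳ t' := by
      rw [subtype_specializes_iff]
      exact (PrimeSpectrum.le_iff_specializes _ _).1 (Ideal.comap_mono hPr)
    have hTeq : closure ({η'} : Set ↥V) ⊆ T :=
      hT.2 isIrreducible_singleton.closure (hη.def ▸ (specializes_iff_closure_subset.1 h1))
    obtain ⟨y, hy⟩ := hTU ⟨t', hTeq (specializes_iff_mem_closure.1 h2), rfl⟩
    have hyr : (y.1.1 : PrimeSpectrum B) = r :=
      hinj _ _ ((hsmem _).1 y.2) (congrArg PrimeSpectrum.asIdeal ((hj y).symm.trans hy))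
    have hfr : f ∉ (y.1.1 : PrimeSpectrum B).asIdeal := y.1.2
    rw [hyr] at hfr
    exact hfr ((Ideal.IsPrime.prod_mem_iff (hp := r.isPrime)).2
      ⟨⟨P, hfin.mem_toFinset.2 hP⟩, Finset.mem_attach _ _, hgr⟩)
  haveI : IsAffine U := hW U hU hcomp haff
  haveI : IsAffine (t ⁻¹ᵁ V : D.toScheme.Opens).toScheme := IsAffine.of_isIso (Scheme.Hom.isoOpensRange j).hom
  have hWa : IsAffineOpen W := by
    have h := (show IsAffineOpen (t ⁻¹ᵁ V) from ‹_›).image_of_isOpenImmersion D.ι
    convert h using 1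
    exact (Scheme.Hom.image_preimage_eq_opensRange_inf D.ι _).trans (by rw [Scheme.Opens.opensRange_ι]) |>.symm
  haveI : IsAffine W := hWa
  haveI : IsAffineHom W.ι := inferInstance
  have hd := PunctAffine.dim_stalk_le_one (Spec (CommRingCat.of B)) W q (fun h => (hsmem q).1 h.2 hq) (by
    intro y hy hyq
    have hyD : y ∈ D := hyq.mem_open D.isOpen hfq
    refine hmin y (by_contra fun h => hy ⟨hyD, (hsmem y).2 h⟩) ?_
    exact (PrimeSpectrum.le_iff_specializes y q).2 hyq)
  let e := AlgebraicGeometry.StructureSheaf.stalkIso B q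
  have he : ringKrullDim ↑((Spec (CommRingCat.of B)).presheaf.stalk q) = ringKrullDim (Localization.AtPrime q.asIdeal) :=
    ringKrullDim_eq_of_ringEquiv e.toRingEquiv.symm
  rw [he, IsLocalization.AtPrime.ringKrullDim_eq_height q.asIdeal] at hd
  exact_mod_cast hd

end Local

end Groth.Agent.Pur21W
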