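import Groth.Agent.Pur21W.Core

/-!
# Reduction of van der Waerden purity to the local ring of the target
-/

set_option autoImplicit false
universe u

open CategoryTheory CategoryTheory.Limits AlgebraicGeometry TopologicalSpace TensorProduct

namespace Groth.Agent.Pur21W

variable {R : Type u} [CommRing R] (p : Ideal R) [p.IsPrime] {B : Type u} [CommRing B] [IsNoetherianRing B]
  [Algebra R B]

theorem height_le_one_or_isolated {A : Type u} [CommRing A] [IsLocalRing A] [Algebra R A]
    [IsLocalization.AtPrime A p] (hW : CondW A)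
    (O₁ : (Spec (CommRingCat.of B)).Opens)
    [IsOpenImmersion (O₁.ι ≫ Spec.map (CommRingCat.ofHom (algebraMap R B)))]
    (hO₁ : ∀ x : PrimeSpectrum B, x.asIdeal.comap (algebraMap R B) < p → x ∈ O₁)
    (q : PrimeSpectrum B) (hq : q.asIdeal.comap (algebraMap R B) = p)
    (hmin : ∀ q' : PrimeSpectrum B, q'.asIdeal.comap (algebraMap R B) = p → q' ≤ q → q' = q) :
    q.asIdeal.height ≤ 1 ∨ ∃ f ∉ q.asIdeal, ∀ q' : PrimeSpectrum B,
      q'.asIdeal.comap (algebraMap R B) = p → f ∉ q'.asIdeal → q' = q := by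
  by_cases hmax : ∀ q' : PrimeSpectrum B, q'.asIdeal.comap (algebraMap R B) = p → q ≤ q' → q' = q
  · exact Or.inr (exists_isolated p q hq hmin hmax)
  push Not at hmax
  obtain ⟨q'', hq'', hle, hne⟩ := hmax
  left
  letI : Algebra A (B ⊗[R] A) := Algebra.TensorProduct.rightAlgebra
  let M := Algebra.algebraMapSubmonoid B p.primeCompl
  haveI : IsLocalization M (B ⊗[R] A) := IsLocalization.tensor A p.primeCompl
  haveI : IsNoetherianRing (B ⊗[R] A) := IsLocalization.isNoetherianRing M _ inferInstance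
  haveI : IsScalarTower R A (B ⊗[R] A) := Algebra.TensorProduct.right_isScalarTower
  have hcm : (IsLocalRing.maximalIdeal A).comap (algebraMap R A) = p :=
    IsLocalization.AtPrime.comap_maximalIdeal A p
  have htower : ∀ x : PrimeSpectrum (B ⊗[R] A),
      (x.asIdeal.comap (algebraMap B (B ⊗[R] A))).comap (algebraMap R B) =
      (x.asIdeal.comap (algebraMap A (B ⊗[R] A))).comap (algebraMap R A) := fun x => by
    rw [Ideal.comap_comap, Ideal.comap_comap, ← IsScalarTower.algebraMap_eq, ← IsScalarTower.algebraMap_eq]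
  have hlift : ∀ x : PrimeSpectrum B, x.asIdeal.comap (algebraMap R B) = p → ∃ x' : PrimeSpectrum (B ⊗[R] A),
      x'.asIdeal.comap (algebraMap B (B ⊗[R] A)) = x.asIdeal ∧
      x'.asIdeal.comap (algebraMap A (B ⊗[R] A)) = IsLocalRing.maximalIdeal A := by
    intro x hx
    have hd : Disjoint (M : Set B) (x.asIdeal : Set B) := by
      rw [Set.disjoint_left]
      rintro _ ⟨r, hr, rfl⟩ h
      exact hr (hx.le h)
    refine ⟨⟨x.asIdeal.map (algebraMap B (B ⊗[R] A)),
      IsLocalization.isPrime_of_isPrime_disjoint M _ _ x.isPrime hd⟩,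
      IsLocalization.comap_map_of_isPrime_disjoint M _ x.isPrime hd, ?_⟩
    haveI := x.isPrime
    haveI : (x.asIdeal.map (algebraMap B (B ⊗[R] A))).IsPrime :=
      IsLocalization.isPrime_of_isPrime_disjoint M _ _ x.isPrime hd
    have := htower ⟨x.asIdeal.map (algebraMap B (B ⊗[R] A)), this⟩
    simp only at this
    rw [show (x.asIdeal.map (algebraMap B (B ⊗[R] A))).comap (algebraMap B (B ⊗[R] A)) = x.asIdeal from
      IsLocalization.comap_map_of_isPrime_disjoint M _ x.isPrime hd, hx, ← hcm] at this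
    have h' := congrArg (Ideal.map (algebraMap R A)) this
    rw [IsLocalization.map_comap p.primeCompl A, IsLocalization.map_comap p.primeCompl A] at h'
    exact h'.symm
  obtain ⟨Q, hQ, hQm⟩ := hlift q hq
  obtain ⟨Q'', hQ'', hQ''m⟩ := hlift q'' hq''
  have hmap : ∀ x : PrimeSpectrum (B ⊗[R] A),
      (x.asIdeal.comap (algebraMap B (B ⊗[R] A))).map (algebraMap B (B ⊗[R] A)) = x.asIdeal := fun x =>
    IsLocalization.map_comap M _ _
  have hinj : ∀ x y : PrimeSpectrum (B ⊗[R] A),
      x.asIdeal.comap (algebraMap B (B ⊗[R] A)) ≤ y.asIdeal.comap (algebraMap B (B ⊗[R] A)) → x ≤ y := fun x y h => by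
    have := Ideal.map_mono (f := algebraMap B (B ⊗[R] A)) h
    rwa [hmap, hmap] at this
  -- the open immersion off the closed fibre
  let s := Spec.map (CommRingCat.ofHom (algebraMap A (B ⊗[R] A)))
  let b := Spec.map (CommRingCat.ofHom (algebraMap B (B ⊗[R] A)))
  have hpb : IsPullback s b (Spec.map (CommRingCat.ofHom (algebraMap R A)))
      (Spec.map (CommRingCat.ofHom (algebraMap R B))) :=
    isPullback_SpecMap_of_isPushout _ _ _ _
      (CommRingCat.isPushout_iff_isPushout.mpr (inferInstance : Algebra.IsPushout R A B (B ⊗[R] A)))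
  have hle₁ : s ⁻¹ᵁ FEt.puncturedSpec A ≤ b ⁻¹ᵁ O₁ := by
    intro x hx
    refine hO₁ (PrimeSpectrum.comap (algebraMap B (B ⊗[R] A)) x) ?_
    have hxm : (x : PrimeSpectrum (B ⊗[R] A)).asIdeal.comap (algebraMap A (B ⊗[R] A)) ≠
        IsLocalRing.maximalIdeal A := fun h => hx (PrimeSpectrum.ext h)
    show ((x : PrimeSpectrum (B ⊗[R] A)).asIdeal.comap (algebraMap B (B ⊗[R] A))).comap (algebraMap R B) < p
    rw [htower x]
    haveI := (x : PrimeSpectrum (B ⊗[R] A)).isPrime
    refine lt_of_le_of_ne ?_ ?_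
    · calc _ ≤ (IsLocalRing.maximalIdeal A).comap (algebraMap R A) :=
            Ideal.comap_mono (IsLocalRing.le_maximalIdeal (Ideal.IsPrime.comap _).ne_top)
        _ = p := hcm
    · intro h
      have := congrArg (Ideal.map (algebraMap R A)) (h.trans hcm.symm)
      rw [IsLocalization.map_comap p.primeCompl A, IsLocalization.map_comap p.primeCompl A] at this
      exact hxm this
  have hj : IsOpenImmersion ((b ⁻¹ᵁ O₁).ι ≫ s) := by
    have h2 := (isPullback_morphismRestrict b O₁).flip.paste_horiz hpb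
    exact MorphismProperty.of_isPullback (P := @IsOpenImmersion) h2.flip inferInstance
  haveI : IsOpenImmersion ((s ⁻¹ᵁ FEt.puncturedSpec A).ι ≫ s) := by
    rw [← Scheme.homOfLE_ι _ hle₁, Category.assoc]
    exact MorphismProperty.comp_mem @IsOpenImmersion _ _ inferInstance hj
  haveI : IsOpenImmersion (s ∣_ FEt.puncturedSpec A) := by
    haveI : IsOpenImmersion ((s ∣_ FEt.puncturedSpec A) ≫ (FEt.puncturedSpec A).ι) := by
      rw [morphismRestrict_ι]; infer_instance
    exact IsOpenImmersion.of_comp _ (FEt.puncturedSpec A).ι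
  have hminQ : ∀ Q' : PrimeSpectrum (B ⊗[R] A),
      Q'.asIdeal.comap (algebraMap A (B ⊗[R] A)) = IsLocalRing.maximalIdeal A → Q' ≤ Q → Q' = Q := by
    intro Q' hQ'm hle'
    refine le_antisymm hle' (hinj _ _ ?_)
    have hc := htower Q'
    rw [hQ'm, hcm] at hc
    haveI := Q'.isPrime
    have := hmin ⟨Q'.asIdeal.comap (algebraMap B (B ⊗[R] A)), Ideal.IsPrime.comap _⟩ hc
      (show Q'.asIdeal.comap _ ≤ q.asIdeal from hQ ▸ Ideal.comap_mono hle')
    rw [hQ]
    exact (congrArg PrimeSpectrum.asIdeal this).ge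
  have h := height_le_one_of_condW hW Q hQm hminQ Q'' hQ''m
    (hinj _ _ (by rw [hQ, hQ'']; exact hle))
    (fun h => hne (PrimeSpectrum.ext (by rw [← hQ'', h, hQ])))
  rw [← IsLocalization.height_under M Q.asIdeal] at h
  rwa [Ideal.under_def, hQ] at h

end Groth.Agent.Pur21W
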