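import Mathlib

/-!
# Local isomorphisms from separated irreducible schemes are open immersions
-/

set_option autoImplicit false
universe u

open CategoryTheory CategoryTheory.Limits AlgebraicGeometry TopologicalSpace

namespace Groth.Agent.Pur21W

theorem isOpenImmersion_of_isLocalIso {U Y : Scheme.{u}} [U.IsSeparated] [PreirreducibleSpace U]
    (f : U ⟶ Y) (hf : ∀ x : U, ∃ W : U.Opens, x ∈ W ∧ IsOpenImmersion (W.ι ≫ f)) : IsOpenImmersion f := by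
  refine IsOpenImmersion.of_forall_source_exists f ?_ fun x => ?_
  swap
  · obtain ⟨W, hx, hW⟩ := hf x
    exact ⟨W, W.ι, inferInstance, by rwa [Scheme.Opens.opensRange_ι], hW⟩
  intro x₁ x₂ hx
  obtain ⟨W₁, hx₁, hW₁⟩ := hf x₁
  obtain ⟨W₂, hx₂, hW₂⟩ := hf x₂
  let j₁ := W₁.ι ≫ f
  let j₂ := W₂.ι ≫ f
  let N : Y.Opens := j₁.opensRange ⊓ j₂.opensRange
  have ht : f x₁ ∈ N := ⟨⟨⟨x₁, hx₁⟩, rfl⟩, ⟨⟨x₂, hx₂⟩, hx.symm⟩⟩
  have h₁ : Set.range N.ι ⊆ Set.range j₁ := by rw [Scheme.Opens.range_ι]; exact fun _ h => h.1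
  have h₂ : Set.range N.ι ⊆ Set.range j₂ := by rw [Scheme.Opens.range_ι]; exact fun _ h => h.2
  let σ₁ := IsOpenImmersion.lift j₁ N.ι h₁
  let σ₂ := IsOpenImmersion.lift j₂ N.ι h₂
  have hσ₁ : ∀ n, j₁ (σ₁ n) = N.ι n := fun n => by
    rw [← Scheme.Hom.comp_apply, IsOpenImmersion.lift_fac]
  have hσ₂ : ∀ n, j₂ (σ₂ n) = N.ι n := fun n => by
    rw [← Scheme.Hom.comp_apply, IsOpenImmersion.lift_fac]
  let M : U.Opens := W₁ ⊓ W₂
  obtain ⟨η, -, hη₁, hη₂⟩ := PreirreducibleSpace.isPreirreducible_univ (X := U) W₁ W₂ W₁.isOpen W₂.isOpen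
    ⟨x₁, Set.mem_univ _, hx₁⟩ ⟨x₂, Set.mem_univ _, hx₂⟩
  haveI : IsOpenImmersion (M.ι ≫ f) := by
    have : U.homOfLE (inf_le_left : M ≤ W₁) ≫ j₁ = M.ι ≫ f := by simp [j₁, M]
    exact this ▸ inferInstance
  have hMN : ∀ m : M.toScheme, (M.ι ≫ f) m ∈ N := fun m =>
    ⟨⟨⟨m.1, m.2.1⟩, rfl⟩, ⟨⟨m.1, m.2.2⟩, rfl⟩⟩
  let ν := IsOpenImmersion.lift N.ι (M.ι ≫ f) (by
    rw [Scheme.Opens.range_ι]; rintro _ ⟨m, rfl⟩; exact hMN m)
  have hν : ν ≫ σ₁ ≫ W₁.ι = ν ≫ σ₂ ≫ W₂.ι := by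
    have e₁ : ν ≫ σ₁ = U.homOfLE (inf_le_left : M ≤ W₁) := by
      rw [← cancel_mono j₁, Category.assoc, IsOpenImmersion.lift_fac, IsOpenImmersion.lift_fac]
      simp [j₁, M]
    have e₂ : ν ≫ σ₂ = U.homOfLE (inf_le_right : M ≤ W₂) := by
      rw [← cancel_mono j₂, Category.assoc, IsOpenImmersion.lift_fac, IsOpenImmersion.lift_fac]
      simp [j₂, M]
    rw [← Category.assoc, e₁, ← Category.assoc, e₂, Scheme.homOfLE_ι, Scheme.homOfLE_ι]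
  let E := equalizer.ι (σ₁ ≫ W₁.ι) (σ₂ ≫ W₂.ι)
  haveI : IsClosedImmersion E := inferInstance
  -- the open set `ν` is dense in `N`
  have hdense : Dense (Set.range ν) := by
    rw [dense_iff_inter_open]
    rintro O hO ⟨o, ho⟩
    have hopen : IsOpen (Set.range ν) := by
      have : ν ≫ N.ι = M.ι ≫ f := IsOpenImmersion.lift_fac _ _ _
      haveI : IsOpenImmersion (ν ≫ N.ι) := this ▸ inferInstance
      haveI : IsOpenImmersion ν := IsOpenImmersion.of_comp ν N.ι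
      exact ν.isOpenEmbedding.isOpen_range
    haveI : IsOpenImmersion (σ₁ ≫ j₁) := by rw [IsOpenImmersion.lift_fac]; infer_instance
    haveI : IsOpenImmersion σ₁ := IsOpenImmersion.of_comp σ₁ j₁
    let g := σ₁ ≫ W₁.ι
    obtain ⟨u, -, ⟨a, haO, ha⟩, ⟨b, hb, hb'⟩⟩ := PreirreducibleSpace.isPreirreducible_univ (X := U) (g '' O)
      (g '' Set.range ν) (g.isOpenEmbedding.isOpenMap O hO) (g.isOpenEmbedding.isOpenMap _ hopen)
      ⟨g o, Set.mem_univ _, o, ho, rfl⟩ ⟨g (ν ⟨η, hη₁, hη₂⟩), Set.mem_univ _, _, ⟨_, rfl⟩, rfl⟩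
    obtain rfl := g.isOpenEmbedding.injective (ha.trans hb'.symm)
    exact ⟨a, haO, hb⟩
  have hsurj : Function.Surjective E := by
    intro n
    have hsub : Set.range ν ⊆ Set.range E := by
      rw [← show equalizer.lift ν hν ≫ E = ν from equalizer.lift_ι _ _]
      rintro _ ⟨m, rfl⟩
      exact ⟨_, (Scheme.Hom.comp_apply _ _ _).symm⟩
    have := closure_minimal hsub E.isClosedEmbedding.isClosed_range
    rw [hdense.closure_eq] at this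
    exact this (Set.mem_univ n)
  obtain ⟨e, he⟩ := hsurj ⟨f x₁, ht⟩
  have key : W₁.ι (σ₁ ⟨f x₁, ht⟩) = W₂.ι (σ₂ ⟨f x₁, ht⟩) := by
    have := congr($(equalizer.condition (σ₁ ≫ W₁.ι) (σ₂ ≫ W₂.ι)) e)
    simp only [Scheme.Hom.comp_apply] at this
    rw [he] at this
    exact this
  have k₁ : σ₁ ⟨f x₁, ht⟩ = ⟨x₁, hx₁⟩ := j₁.isOpenEmbedding.injective ((hσ₁ _).trans rfl)
  have k₂ : σ₂ ⟨f x₁, ht⟩ = ⟨x₂, hx₂⟩ := j₂.isOpenEmbedding.injective ((hσ₂ _).trans hx)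
  rw [k₁, k₂] at key
  exact key

end Groth.Agent.Pur21W
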