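import Groth.Agent.Pur21W.Loc

/-!
# Van der Waerden purity on schemes
-/

set_option autoImplicit false
universe u

open CategoryTheory CategoryTheory.Limits AlgebraicGeometry TopologicalSpace

namespace Groth.Agent.Pur21W

variable {X Y : Scheme.{u}} [IsLocallyNoetherian X] (g : X ⟶ Y)

theorem main {V : Y.Opens} (hV : IsAffineOpen V) {O : X.Opens} (hO : IsAffineOpen O) (e : O ≤ g ⁻¹ᵁ V)
    (O₁ : X.Opens) (hle : O₁ ≤ O) [IsOpenImmersion (O₁.ι ≫ g)] (z : X) (hzO : z ∈ O)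
    (hW : CondW ↑(Y.presheaf.stalk (g z)))
    (hO₁ : ∀ w ∈ O, g w ⤳ g z → g w ≠ g z → w ∈ O₁)
    (hmin : ∀ w ∈ O, g w = g z → w ⤳ z → w = z) :
    ringKrullDim ↑(X.presheaf.stalk z) ≤ 1 ∨
      ∃ W : X.Opens, W ≤ O ∧ z ∈ W ∧ ∀ w ∈ W, g w = g z → w = z := by
  haveI : IsNoetherianRing Γ(X, O) := IsLocallyNoetherian.component_noetherian ⟨O, hO⟩
  letI : Algebra Γ(Y, V) Γ(X, O) := (g.appLE V O e).hom.toAlgebra
  letI : Algebra Γ(Y, V) (Y.presheaf.stalk (g z)) := TopCat.Presheaf.algebra_section_stalk Y.presheaf ⟨g z, e hzO⟩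
  let p := hV.primeIdealOf ⟨g z, e hzO⟩
  haveI := p.isPrime
  haveI : IsLocalization.AtPrime (Y.presheaf.stalk (g z)) p.asIdeal := hV.isLocalization_stalk ⟨g z, e hzO⟩
  let q := hO.primeIdealOf ⟨z, hzO⟩
  have hsq : Spec.map (g.appLE V O e) ≫ hV.fromSpec = hO.fromSpec ≫ g :=
    IsAffineOpen.SpecMap_appLE_fromSpec g hV hO e
  have hpt : ∀ x : PrimeSpectrum Γ(X, O),
      g (hO.fromSpec x) = hV.fromSpec (PrimeSpectrum.comap (algebraMap Γ(Y, V) Γ(X, O)) x) := fun x => by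
    rw [← Scheme.Hom.comp_apply, ← hsq, Scheme.Hom.comp_apply]; rfl
  have hp : hV.fromSpec p = g z := hV.fromSpec_primeIdealOf _
  have hq : hO.fromSpec q = z := hO.fromSpec_primeIdealOf _
  have hcomap : ∀ x : PrimeSpectrum Γ(X, O),
      x.asIdeal.comap (algebraMap Γ(Y, V) Γ(X, O)) = p.asIdeal ↔ g (hO.fromSpec x) = g z := fun x => by
    rw [hpt, ← hp, hV.fromSpec.isOpenEmbedding.injective.eq_iff]
    exact ⟨fun h => PrimeSpectrum.ext h, fun h => congrArg PrimeSpectrum.asIdeal h⟩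
  have hmemO : ∀ x, hO.fromSpec x ∈ O := fun x => hO.range_fromSpec.le ⟨x, rfl⟩
  haveI : IsOpenImmersion ((hO.fromSpec ⁻¹ᵁ O₁).ι ≫
      Spec.map (CommRingCat.ofHom (algebraMap Γ(Y, V) Γ(X, O)))) := by
    haveI : IsOpenImmersion (((hO.fromSpec ⁻¹ᵁ O₁).ι ≫
        Spec.map (CommRingCat.ofHom (algebraMap Γ(Y, V) Γ(X, O)))) ≫ hV.fromSpec) := by
      rw [Category.assoc]
      show IsOpenImmersion (_ ≫ Spec.map (g.appLE V O e) ≫ hV.fromSpec)
      rw [hsq, ← morphismRestrict_ι_assoc]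
      exact MorphismProperty.comp_mem @IsOpenImmersion _ _
        (IsZariskiLocalAtTarget.restrict (P := @IsOpenImmersion) inferInstance _) inferInstance
    exact IsOpenImmersion.of_comp _ hV.fromSpec
  have hstalk : ringKrullDim ↑(X.presheaf.stalk z) = q.asIdeal.height := by
    letI : Algebra Γ(X, O) (X.presheaf.stalk z) := TopCat.Presheaf.algebra_section_stalk X.presheaf ⟨z, hzO⟩
    haveI : IsLocalization.AtPrime (X.presheaf.stalk z) q.asIdeal := hO.isLocalization_stalk ⟨z, hzO⟩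
    exact IsLocalization.AtPrime.ringKrullDim_eq_height q.asIdeal _
  have hO₁' : ∀ x : PrimeSpectrum Γ(X, O), x.asIdeal.comap (algebraMap Γ(Y, V) Γ(X, O)) < p.asIdeal →
      x ∈ hO.fromSpec ⁻¹ᵁ O₁ := fun x hx =>
    hO₁ _ (hmemO x) (by
      rw [hpt, ← hp]
      exact ((PrimeSpectrum.le_iff_specializes _ p).1 hx.le).map hV.fromSpec.continuous)
      (fun h => hx.ne ((hcomap x).2 h))
  rcases height_le_one_or_isolated p.asIdeal hW (hO.fromSpec ⁻¹ᵁ O₁) hO₁' q ((hcomap q).2 (by rw [hq]))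
    (fun q' hq' hle' => hO.fromSpec.isOpenEmbedding.injective (by
      rw [hq]
      exact hmin _ (hmemO q') ((hcomap q').1 hq')
        (hq ▸ ((PrimeSpectrum.le_iff_specializes q' q).1 hle').map hO.fromSpec.continuous))) with h | ⟨f, hf, h⟩
  · exact Or.inl (by rw [hstalk]; exact_mod_cast h)
  · refine Or.inr ⟨hO.fromSpec ''ᵁ (PrimeSpectrum.basicOpen f), ?_, ?_, ?_⟩
    · rintro _ ⟨x, -, rfl⟩; exact hmemO x
    · exact ⟨q, hf, hq⟩
    · rintro _ ⟨x, hx, rfl⟩ hgx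
      exact (congrArg hO.fromSpec (h x ((hcomap x).2 hgx) hx)).trans hq

end Groth.Agent.Pur21W
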